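import Cfsg.Agent.H793.Cyc.FiveHN
import Cfsg.Agent.H525.RO.BRow
import Cfsg.Agent.H525.RO.BNo
import Cfsg.Agent.H705.OreB.BInvFive
import Cfsg.Agent.H844.Ore.BInv_m3
import Cfsg.Agent.H844.Ore.BReal
import Cfsg.Agent.H58.Mon.FiveB_m3
import Cfsg.Agent.H841.Phi_m3
import Cfsg.Agent.FastGrp
import Cfsg.Agent.Prune
set_option linter.all false
prune_inst 0x7f00000000000000000000000000000000000000000000000000000000000000000000000000000000000000000000000000000000000000000000000000000000000000000000000000000000000000003fffffffffffffffffffffffffffbeffbdffffffff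
open scoped Cfsg.Agent.FastGrp

-- part: H810/RIM/HnCent
section
/-!
# The centralizers of the elements of order 25 in a Sylow 5-subgroup of the Harada-Norton group (helper810, S4816)

`P = Q⟨F⟩`, `Q = 5 ^ (1 + 4)`; `F` commutes with `u₀ = A B D⁴` and acts on `Q / ⟨W⟩` with one Jordan block. An element
`q F` commuting with `u₀` is conjugate under `Q` to some `W ^ e F`, hence has order 5.

* `pow5_of_comm` : `q F` commuting with `u₀` has order 5;
* `mem_W` : an element of `Q` commuting with `q F` of order 25 is in `⟨W⟩`;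
* `mem_zpowers` : `C_P(x) = ⟨x⟩` for `x ∈ P` of order 25.
-/

set_option autoImplicit false

namespace Cfsg.Agent.H810.RIM.HnCent

open Subgroup Cfsg Cfsg.Agent.H839.Rad.Ext Cfsg.Agent.H981.InvHN Cfsg.Agent.H793.Cyc.FiveHN
open Cfsg.Agent.H839.Rad.HN (W A B C₁ D F ext e_fa1 e_fb1 e_fa2 e_fb2 FW F_Q W_ne e_w5 hW)

/-- the exponents are determined modulo 5 -/
theorem nf_inj {i j u l m i' j' u' l' m' : ℤ}
    (h : nf W A B C₁ D i j u l m = nf W A B C₁ D i' j' u' l' m') :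
    (5 : ℤ) ∣ i - i' ∧ (5 : ℤ) ∣ j - j' ∧ (5 : ℤ) ∣ u - u' ∧ (5 : ℤ) ∣ l - l' := by
  have key : ∀ r s t v : ℤ, (5 : ℤ) ∣ (i * s - r * j + u * v - t * l) - (i' * s - r * j' + u' * v - t * l') := by
    intro r s t v
    have e1 := ext.nf_mul_comm i j u l m r s t v 0
    have e2 := ext.nf_mul_comm i' j' u' l' m' r s t v 0
    rw [h, e2] at e1
    have e3 := mul_right_cancel e1
    have e4 : W ^ ((i * s - r * j + u * v - t * l) - (i' * s - r * j' + u' * v - t * l')) = 1 := by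
      rw [zpow_sub, ← e3, mul_inv_cancel]
    have e5 := orderOf_dvd_iff_zpow_eq_one.2 e4
    rw [ext.hw] at e5
    exact_mod_cast e5
  have k1 := key 0 1 0 0
  have k2 := key 1 0 0 0
  have k3 := key 0 0 0 1
  have k4 := key 0 0 1 0
  refine ⟨?_, ?_, ?_, ?_⟩ <;> omega

/-- `W` commutes with all elements of `P` -/
theorem W_comm {x : Spor.HN} (hx : x ∈ P) : Commute W x := by
  obtain ⟨q, hq, s, rfl⟩ := hx
  exact (show Commute W q from (ext.comm_w q hq).symm).mul_right ((show Commute W F from FW.symm).zpow_right s)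

/-- the fixed vector -/
noncomputable def u0 : Spor.HN := nf W A B C₁ D 1 1 0 4 0

theorem nf_mod' {i j u l m i' j' u' l' m' : ℤ} (h1 : (5 : ℤ) ∣ i - i') (h2 : (5 : ℤ) ∣ j - j') (h3 : (5 : ℤ) ∣ u - u')
    (h4 : (5 : ℤ) ∣ l - l') (h5 : (5 : ℤ) ∣ m - m') :
    nf W A B C₁ D i j u l m = nf W A B C₁ D i' j' u' l' m' := by
  rw [nf_mod h1 h2 h3 h4]
  unfold nf
  rw [zpow_eq e_w5 h5]

theorem F_u0 : F * u0 * F⁻¹ = u0 := by
  have h1 : u0 = A * B * (D * D * D * D) := by
    simp only [u0, nf, zpow_one, zpow_zero, mul_one]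
    rfl
  have e1 : F * A * F⁻¹ = nf W A B C₁ D 0 0 4 4 1 := Cfsg.Agent.H839.Rad.HN.conj_of e_fa1
  have e2 : F * B * F⁻¹ = nf W A B C₁ D 0 1 0 4 2 := Cfsg.Agent.H839.Rad.HN.conj_of e_fb1
  have e3 : F * D * F⁻¹ = nf W A B C₁ D 4 0 4 4 3 := Cfsg.Agent.H839.Rad.HN.conj_of e_fb2
  have h2 : F * (A * B * (D * D * D * D)) * F⁻¹ = (F * A * F⁻¹) * (F * B * F⁻¹) * ((F * D * F⁻¹) * (F * D * F⁻¹) *
      (F * D * F⁻¹) * (F * D * F⁻¹)) := by group
  rw [h1, h2, e1, e2, e3, ext.nf_mul, ext.nf_mul, ext.nf_mul, ext.nf_mul, ext.nf_mul, ← h1]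
  exact nf_mod' (by norm_num) (by norm_num) (by norm_num) (by norm_num) (by norm_num)

/-- **an element `q F` commuting with `u₀` has order 5** -/
theorem pow5_of_comm {q : Spor.HN} (hq : q ∈ ext.Q) (h : (q * F) * u0 = u0 * (q * F)) : (q * F) ^ 5 = 1 := by
  have hqu : q * u0 = u0 * q := by
    have h1 : F * u0 = u0 * F := by
      calc F * u0 = F * u0 * F⁻¹ * F := by group
        _ = u0 * F := by rw [F_u0]
    have h2 : q * u0 * F = u0 * q * F := by
      calc q * u0 * F = q * (u0 * F) := by group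
        _ = q * (F * u0) := by rw [h1]
        _ = u0 * q * F := by rw [← mul_assoc, h, ← mul_assoc]
    exact mul_right_cancel h2
  obtain ⟨i, j, u, l, m, rfl⟩ := hq
  obtain ⟨v, hv, he⟩ := exists_code i j u l m
  rw [he] at hqu ⊢
  have hd := ext.comm_iff.1 hqu
  -- the conjugating element
  obtain ⟨m1, h1⟩ := stepF (4 * (d0 v + d1 v)) (4 * (d3 v + 4 * d0 v)) (4 * (4 * d1 v)) 0 0
  set r : Spor.HN := nf W A B C₁ D ((d0 v + d1 v : ℕ) : ℤ) ((d3 v + 4 * d0 v : ℕ) : ℤ) ((4 * d1 v : ℕ) : ℤ) 0 0 with hr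
  set r' : Spor.HN := nf W A B C₁ D ((4 * (d0 v + d1 v) : ℕ) : ℤ) ((4 * (d3 v + 4 * d0 v) : ℕ) : ℤ)
    ((4 * (4 * d1 v) : ℕ) : ℤ) ((0 : ℕ) : ℤ) 0 with hr'
  have hrr : r * r' ∈ zpowers W := by
    rw [hr, hr', ext.nf_mul]
    apply ext.nf_mem_zpowers
    · push_cast; (clear * -; omega)
    · push_cast; (clear * -; omega)
    · push_cast; omega
    · norm_num
  obtain ⟨e, hrr⟩ := mem_zpowers_iff.1 hrr
  replace hrr := hrr.symm
  have hrQ : r ∈ ext.Q := ext.nf_mem _ _ _ _ _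
  have hinv : r⁻¹ = r' * W ^ (-e) := by
    rw [inv_eq_iff_mul_eq_one, ← mul_assoc, hrr, ← zpow_add, add_neg_cancel, zpow_zero]
  have cWF : ∀ n : ℤ, Commute (W ^ n) F := fun n => (show Commute W F from FW.symm).zpow_left n
  have cWr : ∀ n : ℤ, Commute (W ^ n) r := fun n => (show Commute W r from (ext.comm_w r hrQ).symm).zpow_left n
  have h2 : r * F * r⁻¹ = r * (F * r' * F⁻¹) * F * W ^ (-e) := by
    rw [hinv]
    group
  have h3 : ∃ n : ℤ, r * (F * r' * F⁻¹) = nv v m * W ^ n := by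
    rw [h1, hr, ext.nf_mul, nv]
    have h5 : ∀ n : ℤ, W ^ n = nf W A B C₁ D 0 0 0 0 n := fun n => by simp [nf]
    refine ⟨(0 + m1 - ((4 * (4 * (4 * d1 v)) + 4 * 0 : ℕ) : ℤ) * ((d3 v + 4 * d0 v : ℕ) : ℤ) -
      ((4 * (4 * (d0 v + d1 v)) + 4 * (4 * (4 * d1 v)) + 4 * 0 : ℕ) : ℤ) * 0) - m, ?_⟩
    rw [h5, ext.nf_mul]
    refine nf_mod' ?_ ?_ ?_ ?_ ?_
    · push_cast; omega
    · push_cast; (clear * -; omega)
    · push_cast; omega
    · push_cast; (clear * -; omega)
    · have : ∀ x y : ℤ, x = y → (5 : ℤ) ∣ x - y := by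
        rintro x y rfl
        simp
      apply this
      push_cast
      ring
  obtain ⟨n, h3⟩ := h3
  have hQ : nv v m ∈ ext.Q := ext.nf_mem _ _ _ _ _
  have h4 : nv v m * F = W ^ (e - n) * (r * F * r⁻¹) := by
    have c1 : Commute (W ^ n) (nv v m) := (show Commute W (nv v m) from (ext.comm_w _ hQ).symm).zpow_left n
    have c2 : Commute (W ^ (-e)) (nv v m * W ^ n * F) :=
      (((show Commute W (nv v m) from (ext.comm_w _ hQ).symm).zpow_left (-e)).mul_right
        ((Commute.refl W).zpow_zpow (-e) n)).mul_right (cWF (-e))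
    rw [h2, h3, ← c2.eq, ← c1.eq, ← mul_assoc, ← mul_assoc, ← mul_assoc, ← zpow_add, ← zpow_add,
      show e - n + -e + n = 0 by ring, zpow_zero, one_mul]
  have c3 : Commute (W ^ (e - n)) (r * F * r⁻¹) := ((cWr _).mul_right (cWF _)).mul_right ((cWr _).inv_right)
  rw [h4, c3.mul_pow, ← zpow_natCast, ← zpow_mul, mul_comm, zpow_mul, zpow_natCast, e_w5, one_zpow, one_mul, conj_pow,
    F5, mul_one, mul_inv_cancel]

/-- **an element of `Q` commuting with `q F` of order 25 is in `⟨W⟩`** -/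
theorem mem_W {q y : Spor.HN} (hq : q ∈ ext.Q) (hy : y ∈ ext.Q) (h : (q * F) * y = y * (q * F))
    (h5 : (q * F) ^ 5 ≠ 1) : y ∈ zpowers W := by
  obtain ⟨i', j', u', l', n, rfl⟩ := hy
  obtain ⟨v, hv, he⟩ := exists_code i' j' u' l' n
  rw [he] at h ⊢
  obtain ⟨m1, h1⟩ := stepF (d0 v) (d1 v) (d2 v) (d3 v) n
  have h2 : q * (F * nf W A B C₁ D (d0 v) (d1 v) (d2 v) (d3 v) n * F⁻¹) = nv v n * q := by
    have h3 : q * (F * nf W A B C₁ D (d0 v) (d1 v) (d2 v) (d3 v) n * F⁻¹) = (q * F) * nv v n * F⁻¹ := by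
      rw [nv]; group
    rw [h3, h]
    group
  have hq' := hq
  obtain ⟨i, j, u, l, m, rfl⟩ := hq'
  rw [h1, ext.nf_mul_comm, nv, ← mul_assoc] at h2
  have h4 := mul_right_cancel h2
  have h5' : ∀ e : ℤ, W ^ e = nf W A B C₁ D 0 0 0 0 e := fun e => by simp [nf]
  rw [h5', ext.nf_mul] at h4
  obtain ⟨k0, k1, k2, k3⟩ := nf_inj h4
  push_cast at k0 k1 k2 k3
  -- the exponents are `b, b, 0, -b`
  have c2 : (5 : ℤ) ∣ d2 v := by omega
  have c0 : (5 : ℤ) ∣ (d0 v : ℤ) + d3 v := by (clear * - k0 c2; omega)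
  have c1 : (5 : ℤ) ∣ (d0 v : ℤ) - d1 v := by (clear * - k3 c2 c0; omega)
  by_cases hb : (5 : ℤ) ∣ (d0 v : ℤ)
  · exact ext.nf_mem_zpowers hb (by (clear * - c1 hb; omega)) c2 (by (clear * - c0 hb; omega))
  · exfalso
    apply h5
    apply pow5_of_comm hq
    -- a power of `y` is `u₀ W ^ e`
    obtain ⟨t, ht⟩ : ∃ t : ℕ, (5 : ℤ) ∣ t * (d0 v : ℤ) - 1 := by
      have h6 : (d0 v : ℤ) % 5 = 1 ∨ (d0 v : ℤ) % 5 = 2 ∨ (d0 v : ℤ) % 5 = 3 ∨ (d0 v : ℤ) % 5 = 4 := by (clear * - k1 hb; omega)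
      rcases h6 with h | h | h | h
      · exact ⟨1, by push_cast; (clear * - h; omega)⟩
      · exact ⟨3, by push_cast; (clear * - h; omega)⟩
      · exact ⟨2, by push_cast; (clear * - h; omega)⟩
      · exact ⟨4, by push_cast; (clear * - h; omega)⟩
    obtain ⟨e, -, h7⟩ := ext.nf_pow (d0 v) (d1 v) (d2 v) (d3 v) n t
    have h8 : nv v n ^ t = u0 * W ^ (((t : ℕ) : ℤ) * n - e * ((d0 v : ℤ) * (d1 v : ℤ) + (d2 v : ℤ) * (d3 v : ℤ))) := by
      rw [nv, h7, u0, h5', ext.nf_mul]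
      obtain ⟨a0, ha0⟩ := ht
      obtain ⟨a1, ha1⟩ := c1
      obtain ⟨a2, ha2⟩ := c2
      obtain ⟨a3, ha3⟩ := c0
      refine nf_mod' ⟨a0, ?_⟩ ⟨a0 - t * a1, ?_⟩ ⟨t * a2, ?_⟩ ⟨t * a3 - a0 - 1, ?_⟩ ⟨0, ?_⟩
      · linear_combination ha0
      · linear_combination ha0 - (t : ℤ) * ha1
      · linear_combination (t : ℤ) * ha2
      · linear_combination (t : ℤ) * ha3 - ha0
      · ring
    have h9 : Commute (nf W A B C₁ D i j u l m * F) (nv v n ^ t) := (show Commute _ (nv v n) from h).pow_right t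
    rw [h8] at h9
    have hP : nf W A B C₁ D i j u l m * F ∈ P := ⟨_, hq, 1, by rw [zpow_one]⟩
    have h10 : Commute (nf W A B C₁ D i j u l m * F) (u0 * W ^ (((t : ℕ) : ℤ) * n - e * ((d0 v : ℤ) * (d1 v : ℤ) +
      (d2 v : ℤ) * (d3 v : ℤ))) * (W ^ (((t : ℕ) : ℤ) * n - e * ((d0 v : ℤ) * (d1 v : ℤ) +
      (d2 v : ℤ) * (d3 v : ℤ))))⁻¹) := h9.mul_right ((W_comm hP).symm.zpow_right _).inv_right
    rw [mul_inv_cancel_right] at h10
    exact h10.eq

/-- **`C_P(x) = ⟨x⟩` for `x ∈ P` of order 25.** -/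
theorem mem_zpowers {x y : Spor.HN} (hx : x ∈ P) (hy : y ∈ P) (ho : orderOf x = 25) (h : x * y = y * x) :
    y ∈ zpowers x := by
  have : Fact (Nat.Prime 5) := ⟨by norm_num⟩
  obtain ⟨q, hq, s, rfl⟩ := hx
  by_cases h5 : (5 : ℤ) ∣ s
  · exfalso
    have h1 : F ^ s = 1 := by rw [zpow_eq F5 (i := s) (j := 0) (by simpa using h5), zpow_zero]
    rw [h1, mul_one] at ho
    have h2 := orderOf_dvd_of_pow_eq_one (ext.pow_eq_one (by decide) q hq)
    rw [ho] at h2
    norm_num at h2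
  obtain ⟨t, ht, htc⟩ : ∃ t : ℕ, (5 : ℤ) ∣ s * t - 1 ∧ Nat.Coprime t 5 := by
    have h4 : s % 5 = 1 ∨ s % 5 = 2 ∨ s % 5 = 3 ∨ s % 5 = 4 := by omega
    rcases h4 with h | h | h | h
    · exact ⟨1, by push_cast; omega, by norm_num⟩
    · exact ⟨3, by push_cast; omega, by norm_num⟩
    · exact ⟨2, by push_cast; omega, by norm_num⟩
    · exact ⟨4, by push_cast; omega, by norm_num⟩
  obtain ⟨q', hq', he⟩ := pow_form hq s t
  rw [zpow_eq F5 (i := s * t) (j := 1) ht, zpow_one] at he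
  set x := q * F ^ s with hx
  have hx5 : (q' * F) ^ 5 ≠ 1 := by
    rw [← he]
    intro h1
    have h2 : orderOf (x ^ t) = 25 := by
      rw [Nat.Coprime.orderOf_pow (by rw [ho, show 25 = 5 ^ 2 by norm_num]; exact (Nat.Coprime.pow_right 2 htc).symm), ho]
    have h3 := orderOf_dvd_of_pow_eq_one h1
    rw [h2] at h3
    norm_num at h3
  have hW5 : W ∈ zpowers x := by
    have h1 := norm_mem hq'
    have h2 : orderOf ((q' * F) ^ 5) = 5 := by
      obtain ⟨n, hn⟩ := mem_zpowers_iff.1 h1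
      refine orderOf_eq_prime ?_ hx5
      rw [← hn, ← zpow_natCast, ← zpow_mul, mul_comm, zpow_mul, zpow_natCast, e_w5, one_zpow]
    have h3 : zpowers ((q' * F) ^ 5) = zpowers W := by
      apply Subgroup.eq_of_le_of_card_ge (zpowers_le.2 h1)
      rw [Nat.card_zpowers, Nat.card_zpowers, h2, ext.hw]
    have h4 : zpowers W ≤ zpowers x := by
      rw [← h3, ← he, zpowers_le]
      exact pow_mem (pow_mem (Subgroup.mem_zpowers x) t) 5
    exact h4 (Subgroup.mem_zpowers W)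
  obtain ⟨q2, hq2, s2, rfl⟩ := hy
  -- `y` modulo a power of `x ^ t` is in `Q`
  obtain ⟨n, hn⟩ : ∃ n : ℕ, (5 : ℤ) ∣ s2 - n := ⟨(s2 % 5).toNat, by omega⟩
  obtain ⟨q3, hq3, he3⟩ := pow_form hq' 1 n
  rw [zpow_one, one_mul] at he3
  have h6 : q2 * F ^ s2 * ((q' * F) ^ n)⁻¹ = q2 * q3⁻¹ := by
    rw [he3, zpow_eq F5 (i := s2) (j := n) hn]
    group
  have hc : Commute (q' * F) (q2 * F ^ s2) := by
    rw [← he]
    exact (show Commute x _ from h).pow_left t
  have h7 : Commute (q' * F) (q2 * q3⁻¹) := by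
    rw [← h6]
    exact hc.mul_right ((Commute.refl _).pow_right n).inv_right
  have h8 := mem_W hq' (mul_mem hq2 (inv_mem hq3)) h7.eq hx5
  have h9 : q2 * F ^ s2 = q2 * q3⁻¹ * (q' * F) ^ n := by rw [← h6, inv_mul_cancel_right]
  rw [h9, ← he]
  refine mul_mem ?_ (pow_mem (pow_mem (Subgroup.mem_zpowers x) t) n)
  exact (zpowers_le.2 hW5) h8

end Cfsg.Agent.H810.RIM.HnCent
end

-- part: H810/RIM/BCent
section
/-!
# The centralizers of the elements of order 25 of the Baby Monster (helper810, S4816)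

`card_cent` : `|C_B(x)| = 25` for `x` of order 25.
-/

set_option autoImplicit false
set_option maxRecDepth 100000
set_option linter.unusedSectionVars false

namespace Cfsg.Agent.H810.RIM.BCent

open Cfsg Cfsg.Agent
open Subgroup (centralizer mem_centralizer_singleton_iff center card_dvd_of_le zpowers)

universe u

/-! ### `Fi₂₄` has no element of order 25 -/

section Fi24

open Cfsg.Agent.H841.Five Cfsg.Agent.LThreeFi24.FiveConj Cfsg.Agent.LThreeFi24.SNine Cfsg.Agent.LThreeFi24.SNineK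
open Cfsg.Spor (Fi24)
open Equiv

theorem fi24_no {x : Fi24} (hx : orderOf x = 25) : False := by
  have h5 : orderOf (x ^ 5) = 5 := by rw [orderOf_pow' _ (by norm_num), hx]; norm_num
  obtain ⟨g, hg⟩ := exists_conj_five h5
  obtain ⟨n, hn⟩ : ∃ n, n = g * x * g⁻¹ := ⟨_, rfl⟩
  have hn5 : n ^ 5 = y0 := by rw [hn, conj_pow, hg]
  have hn25 : n ^ 25 = 1 := by rw [hn, conj_pow, ← hx, pow_orderOf_eq_one, mul_one, mul_inv_cancel]
  have hc : n * y0 = y0 * n := by rw [← hn5, ← pow_succ, ← pow_succ']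
  obtain ⟨i, σ, -, hR, he⟩ := exists_of_comm hc
  have h1 := hR.pow 25
  rw [hn25] at h1
  have h2 : σ ^ 25 = 1 := h1.uniq R.one
  have h3 : orderOf σ ∣ 5 := by
    have h4 := orderOf_dvd_of_pow_eq_one h2
    have h6 := orderOf_dvd_natCard σ
    rw [Nat.card_perm, Nat.card_fin] at h6
    have h7 := Nat.dvd_gcd h4 h6
    have h8 : Nat.gcd 25 (Nat.factorial 9) = 5 := by decide +kernel
    rwa [h8] at h7
  have h4 : σ ^ 5 = 1 := orderOf_dvd_iff_pow_eq_one.1 h3
  have h6 : n ^ 5 = 1 := by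
    have h7 := (comm_y0_pow_Phi i σ).mul_pow 5
    rw [← he, ← map_pow, h4, map_one, mul_one, ← pow_mul, mul_comm, pow_mul] at h7
    have h8 : y0 ^ 5 = 1 := by rw [← orderOf_y0, pow_orderOf_eq_one]
    rw [h7, h8, one_pow]
  rw [hn5] at h6
  have h7 := orderOf_y0
  rw [h6, orderOf_one] at h7
  norm_num at h7

end Fi24

/-! ### elements of order 3 -/

section three

open Cfsg.Agent.LThreeMB H630.Baby

theorem not_FiB {L : Type u} [Group L] {s x : L} (hs : H844.Ore.FiB s) (hx : orderOf x = 25) (hc : x * s = s * x) :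
    False := by
  obtain ⟨t₀, -, h2, e, a, ha, hae, ha', f, -⟩ := hs
  set Z := center ↥(centralizer ({t₀} : Set Mon)) with hZ
  have hZ2 : ∀ z ∈ Z, z ^ 2 = 1 := by
    intro z hz
    have h3 := pow_card_eq_one' (x := (⟨z, hz⟩ : Z))
    rw [h2] at h3
    exact congrArg Subtype.val h3
  -- a lift of order 25
  obtain ⟨c, hc1⟩ := QuotientGroup.mk_surjective (s := Z) (e.symm x)
  have hx25 : x ^ 25 = 1 := by rw [← hx, pow_orderOf_eq_one]
  have hcz : c ^ 25 ∈ Z := by
    rw [← QuotientGroup.eq_one_iff, QuotientGroup.mk_pow, hc1, ← map_pow, hx25, map_one]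
  obtain ⟨b, hb⟩ : ∃ b, b = c ^ 26 := ⟨_, rfl⟩
  have hbm : (QuotientGroup.mk b : _ ⧸ Z) = e.symm x := by
    rw [hb, QuotientGroup.mk_pow, hc1, pow_succ, ← map_pow, hx25, map_one, one_mul]
  have hb25 : b ^ 25 = 1 := by
    have h3 := hZ2 _ hcz
    rw [hb, ← pow_mul, show 26 * 25 = 25 * 2 * 13 by norm_num, pow_mul, pow_mul, h3, one_pow]
  -- it commutes with `a`
  have ha3 : a ^ 3 = 1 := by rw [← ha, pow_orderOf_eq_one]
  have hba : b * a = a * b := by
    have h3 : a⁻¹ * (b * a * b⁻¹) ∈ Z := by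
      rw [← QuotientGroup.eq_one_iff]
      have h4 : (QuotientGroup.mk a : _ ⧸ Z) = e.symm s := by rw [← hae, e.symm_apply_apply]
      rw [QuotientGroup.mk_mul, QuotientGroup.mk_mul, QuotientGroup.mk_mul, QuotientGroup.mk_inv, QuotientGroup.mk_inv,
        hbm, h4, ← map_mul, hc, map_mul, mul_inv_cancel_right, inv_mul_cancel]
    obtain ⟨z, hz⟩ : ∃ z, z = a⁻¹ * (b * a * b⁻¹) := ⟨_, rfl⟩
    rw [← hz] at h3
    have h5 : b * a * b⁻¹ = a * z := by rw [hz]; group
    have h6 : (a * z) ^ 3 = 1 := by rw [← h5, conj_pow, ha3, mul_one, mul_inv_cancel]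
    have hcaz : Commute a z := (Subgroup.mem_center_iff.1 h3 a)
    rw [hcaz.mul_pow, ha3, one_mul] at h6
    have h7 := hZ2 z h3
    have h8 : z = 1 := by
      have : z ^ 3 = z ^ 2 * z := by rw [pow_succ]
      rw [this, h7, one_mul] at h6
      exact h6
    rw [h8, mul_one] at h5
    exact mul_inv_eq_iff_eq_mul.1 h5
  have hbM : (b : Mon) * (a : Mon) = (a : Mon) * (b : Mon) := congrArg Subtype.val hba
  -- the image in `Fi₂₄'`
  obtain ⟨w, hw⟩ : ∃ w, w = f (mk (a : Mon) hbM) := ⟨_, rfl⟩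
  have hpow : ∀ n : ℕ, mk (a : Mon) hbM ^ n = 1 → ∃ i : ℤ, (a : Mon) ^ i = (b : Mon) ^ n := by
    intro n hn
    have h3 : mk (a : Mon) hbM ^ n = mk (a : Mon) (g := (b : Mon) ^ n)
        ((show Commute (b : Mon) (a : Mon) from hbM).pow_left n).eq := rfl
    rw [h3] at hn
    exact (mk_eq_one _).1 hn
  have hb5 : (b : Mon) ^ 5 ≠ 1 := by
    intro h3
    have h4 : b ^ 5 = 1 := Subtype.ext h3
    have h5 : x ^ 5 = 1 := by
      have h6 : (QuotientGroup.mk (b ^ 5) : _ ⧸ Z) = 1 := by rw [h4]; rfl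
      rw [QuotientGroup.mk_pow, hbm, ← map_pow] at h6
      exact e.symm.injective (by rw [h6, map_one])
    have h6 := orderOf_dvd_of_pow_eq_one h5
    rw [hx] at h6
    norm_num at h6
  have haM : (a : Mon) ^ 3 = 1 := congrArg Subtype.val ha3
  have hbM25 : (b : Mon) ^ 25 = 1 := congrArg Subtype.val hb25
  have how : orderOf w = 25 := by
    have h3 : orderOf w ∣ 5 ^ 2 := by
      apply orderOf_dvd_of_pow_eq_one
      rw [hw, ← map_pow, ← map_one f]
      congr 1
      have h4 : mk (a : Mon) hbM ^ (5 ^ 2) = mk (a : Mon) (g := (b : Mon) ^ (5 ^ 2))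
        ((show Commute (b : Mon) (a : Mon) from hbM).pow_left (5 ^ 2)).eq := rfl
      rw [h4]
      exact (mk_eq_one _).2 ⟨0, by rw [zpow_zero]; exact hbM25.symm⟩
    obtain ⟨k, hk, hk'⟩ := (Nat.dvd_prime_pow Nat.prime_five).1 h3
    by_contra hne
    have hk1 : k ≤ 1 := by
      by_contra hk2
      have : k = 2 := by omega
      rw [this] at hk'
      exact hne (hk'.trans (by norm_num))
    have h4 : w ^ 5 = 1 := by
      rw [← orderOf_dvd_iff_pow_eq_one, hk']
      exact (pow_dvd_pow 5 hk1).trans (by norm_num)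
    rw [hw, ← map_pow] at h4
    have h5 := f.injective (h4.trans (map_one f).symm)
    obtain ⟨i, hi⟩ := hpow 5 h5
    apply hb5
    have h6 : ((b : Mon) ^ 5) ^ 3 = 1 := by
      rw [← hi, ← zpow_natCast, ← zpow_mul, mul_comm, zpow_mul, zpow_natCast, haM, one_zpow]
    have h7 : (b : Mon) ^ 5 = ((b : Mon) ^ 25) ^ 2 * (((b : Mon) ^ 5) ^ 3)⁻¹ ^ 3 := by
      rw [hbM25, h6]
      have h8 : (b : Mon) ^ 5 = ((b : Mon) ^ 25) ^ 2 * ((((b : Mon) ^ 5) ^ 3) ^ 3)⁻¹ := by group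
      rw [h8, hbM25, h6]
      simp only [_root_.one_pow, _root_.inv_one, _root_.mul_one]
    rw [h7, hbM25, h6]
    simp
  exact fi24_no (x := ((w : Spor.Fi24') : Spor.Fi24)) (by rw [Subgroup.orderOf_coe, how])

end three

/-! ### elements of order 7 -/

section seven

open Cfsg.Agent.H829.Pw Cfsg.Agent.LThreeMB

theorem he_dvd {H : Type*} [Group H] (h : Spor.IsoHe H) {τ : H} (hτ : orderOf τ = 2) :
    Nat.card ↥(centralizer ({τ} : Set H)) ∣ 322560 := by
  obtain ⟨e⟩ := h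
  rw [LThreeB.card_centralizer_congr e τ]
  have h2 : orderOf (e τ) = 2 := by rw [MulEquiv.orderOf_eq, hτ]
  have h3 : e τ * e τ = 1 := by rw [← pow_two, ← h2, pow_orderOf_eq_one]
  have h4 : e τ ≠ 1 := by
    intro h5
    rw [h5, orderOf_one] at h2
    norm_num at h2
  rcases CTwoTab.He.classes h3 h4 with hc | hc
  · have h5 : Nat.card ↥(Subgroup.centralizer ({CTwoTab.He.z} : Set Spor.He)) = 21504 := KFacts.He.Cent.card_cent
    rw [card_cent_of_isConj hc, h5]
    norm_num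
  · rw [card_cent_of_isConj hc]
    exact H997.OutHe.card_cent_a.trans (by norm_num)

theorem seven_dvd {L : Type u} [Group L] [Finite L] (h : Spor.IsoB L) {y : L} (hy : orderOf y = 7) :
    Nat.card ↥(centralizer ({y} : Set L)) ∣ 7 * 322560 := by
  have hfin : Finite H630.Baby.Mon := MThirteen.Row.finite
  obtain ⟨t, x, ht, hx, hxt, hc⟩ := H630.Baby.exists_lift_card h (by norm_num) (by norm_num) hy
  obtain ⟨g, hg⟩ := exists_he (v := t) ht hx hxt
  have hx' : orderOf (g⁻¹ * x * g) = 7 := by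
    have h6 := MulEquiv.orderOf_eq (MulAut.conj g⁻¹) x
    rw [MulAut.conj_apply, inv_inv] at h6
    rw [h6, hx]
  have ht' : orderOf (g⁻¹ * t * g) = 2 := by
    have h6 := MulEquiv.orderOf_eq (MulAut.conj g⁻¹) t
    rw [MulAut.conj_apply, inv_inv] at h6
    rw [h6]
    exact MThirteen.Row.ta_order ht
  have hxt' : g⁻¹ * x * g * (g⁻¹ * t * g) = g⁻¹ * t * g * (g⁻¹ * x * g) := by
    calc g⁻¹ * x * g * (g⁻¹ * t * g) = g⁻¹ * (x * t) * g := by group
      _ = g⁻¹ * (t * x) * g := by rw [hxt]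
      _ = _ := by group
  obtain ⟨τ, hτ, hd⟩ := H979.BAdj.card_XT_dvd (r := 7) (by norm_num) (by norm_num) hx' ht' hxt'
  have h1 : Nat.card ↥(LThreeB.XT x t) = Nat.card ↥(LThreeB.XT (g⁻¹ * x * g) (g⁻¹ * t * g)) := by
    have h2 := Nat.card_congr (LThreeB.conjXT g⁻¹ x t).toEquiv
    rw [inv_inv] at h2
    exact h2
  rw [← h1, hc] at hd
  exact (Dvd.intro _ rfl).trans (hd.trans (mul_dvd_mul_left 7 (he_dvd hg hτ)))

end seven

/-! ### elements of order 5 -/

section five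

open Cfsg.Agent.MonsterX Cfsg.Agent.MonsterX.InstData Cfsg.Agent.MonsterX.MainPack Cfsg.Agent.MonsterU
open Cfsg.Agent.MonsterP Cfsg.Agent.MonsterN Cfsg.Agent.LThree Cfsg.Agent.LThreeMB
open Cfsg.Agent.MonsterX.MainBasic Cfsg.Agent.MonsterX.MainSimple Cfsg.Agent.MonsterX.Model
open Cfsg.Agent.LThreeB (XT mem_XT centXT centXT' conjXT)
open Cfsg.Agent.H979.BAdj Cfsg.Agent.H979.CovLift Cfsg.Agent.H979.OddB
open Cfsg.Agent.H630.NH Cfsg.Agent.H241.NH Cfsg.Agent.H630.Baby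

/-- **`x` of order 5 in the Monster commuting with `t` of class 2A and with a conjugate of `z`.** -/
theorem five_mon {x t : Mon} (hx : orderOf x = 5) (ht : orderOf t = 2) (hxt : x * t = t * x)
    (hex : ∃ g : Mon, (g * KDone.K.z * g⁻¹) * x = x * (g * KDone.K.z * g⁻¹)) :
    Nat.card ↥(XT x t) ∣ 5 * 177408000 ∨ Nat.card ↥(XT x t) ∣ 5 * 3686400 ∨
      Nat.card ↥(XT x t) ∣ 5 ^ 7 * (604800 * 2) := by
  have hfin : Finite Mon := MThirteen.Row.finite
  have hsim : IsSimpleGroup Mon := MThirteen.Row.simple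
  have h := KChart.chart KDone.lft MFive.Row.hc
  rcases MFive.Row.cases_model CpAutBFive.Final.coFive (MFiveHN.Closed.hnEight h) hx hex with
    ⟨⟨e⟩⟩ | ⟨y₀, k, i, hy₀, hfr, hk⟩
  · obtain ⟨τ, hτ, hd⟩ := card_XT_dvd Nat.prime_five (by norm_num) hx ht hxt
    rw [LThreeB.card_centralizer_congr e] at hd
    rcases Cfsg.Agent.SigZeroHN.card_centralizer_cases (u := e τ)
      (by rw [MulEquiv.orderOf_eq]; exact hτ) with ⟨-, h5⟩ | ⟨-, h5⟩
    · rw [h5] at hd
      exact Or.inl hd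
    · rw [h5] at hd
      exact Or.inr (Or.inl hd)
  · right
    right
    have hki : orderOf ((y₀ : Mon) ^ i) = 5 := by
      rw [← hk, ← hx]
      exact MulEquiv.orderOf_eq (MulAut.conj k) x
    have hoy : orderOf (y₀ : Mon) = 5 := by rw [Subgroup.orderOf_coe, hy₀]
    obtain ⟨j, hj⟩ : ∃ j : ℕ, ((y₀ : Mon) ^ i) ^ j = y₀ := by
      refine exists_pow_eq_self_of_coprime ?_
      rw [hoy]
      by_contra hcon
      have h5 : 5 ∣ i := by
        by_contra h6
        exact hcon ((Nat.coprime_comm).1 ((Nat.Prime.coprime_iff_not_dvd Nat.prime_five).2 h6))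
      obtain ⟨r, rfl⟩ := h5
      have h7 : (y₀ : Mon) ^ 5 = 1 := by rw [← hoy, pow_orderOf_eq_one]
      rw [pow_mul, h7, one_pow, orderOf_one] at hki
      norm_num at hki
    have hle : centralizer ({(y₀ : Mon) ^ i} : Set Mon) ≤ centralizer ({(y₀ : Mon)} : Set Mon) := by
      intro g hg
      rw [mem_centralizer_singleton_iff] at hg ⊢
      have h2 := ((show Commute g ((y₀ : Mon) ^ i) from hg).pow_right j).eq
      rwa [hj] at h2
    have h1 : Nat.card ↥(centralizer ({x} : Set Mon)) = Nat.card ↥(centralizer ({(y₀ : Mon) ^ i} : Set Mon)) :=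
      MThirteen.card_cent_conj (isConj_iff.2 ⟨k, hk⟩)
    have h2 : Nat.card ↥(XT x t) ∣ Nat.card ↥(centralizer ({x} : Set Mon)) := by
      refine card_dvd_of_le fun g hg => ?_
      rw [mem_centralizer_singleton_iff]
      exact (mem_XT.1 hg).1
    rw [h1] at h2
    exact (h2.trans (card_dvd_of_le hle)).trans (H58.MonFiveB.card_dvd hy₀ hfr)

theorem five_dvd {L : Type u} [Group L] [Finite L] (h : Spor.IsoB L) {y : L} (hy : orderOf y = 5) :
    Nat.card ↥(centralizer ({y} : Set L)) * 2 ∣ 5 * 177408000 ∨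
      Nat.card ↥(centralizer ({y} : Set L)) * 2 ∣ 5 * 3686400 ∨
      Nat.card ↥(centralizer ({y} : Set L)) * 2 ∣ 5 ^ 7 * (604800 * 2) := by
  have hfin : Finite Mon := MThirteen.Row.finite
  obtain ⟨w, hw, hwy⟩ := H705.OreB.BInvFive.exists_inv h hy
  obtain ⟨t, ht, h2, ⟨e⟩⟩ := exists_cover h
  obtain ⟨a, ha, ha'⟩ := _root_.Cfsg.Agent.H979.CovLift.exists_lift h2 Nat.prime_five (by norm_num) (x := e.symm y) (by rw [MulEquiv.orderOf_eq, hy])
  have ha5 : a ^ 5 = 1 := by rw [← ha, pow_orderOf_eq_one]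
  have h4 : 4 ∣ Nat.card ↥(centralizer ({(a : Mon)} : Set Mon)) :=
    four_dvd h2 e (by decide : Odd 5) ha5 hw (by rw [ha', e.apply_symm_apply, hwy])
  have haM : orderOf (a : Mon) = 5 := by rw [Subgroup.orderOf_coe, ha]
  have hex := (CpAutBFive.EvenRow.cases haM).resolve_right fun h => h h4
  have hc : Nat.card ↥(XT (a : Mon) t) = Nat.card ↥(centralizer ({y} : Set L)) * 2 := by
    have h3 := card_cent h2 e Nat.prime_five (by norm_num) ha
    rw [ha', e.apply_symm_apply] at h3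
    rw [← h3]
    exact Nat.card_congr (centXT a).toEquiv
  rw [← hc]
  exact five_mon haM (MThirteen.Row.ta_order ht) (mem_centralizer_singleton_iff.1 a.2) hex

end five

/-! ### the Baby Monster -/

section main

open Cfsg.Agent.H981.InvHN (P isPGroup_P index_P)
open Cfsg.Agent.H839.Rad.HN (W)

theorem card_B : Nat.card Spor.BabyMonster = 4154781481226426191177580544000000 := by
  have hB : Cfsg.IsB Cfsg.Spor.BabyMonster := Cfsg.Agent.S1704.result
  exact hB.2

theorem fin_B : Finite Spor.BabyMonster := Nat.finite_of_card_ne_zero (by rw [card_B]; norm_num)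

theorem card_P : Nat.card P = 5 ^ 6 := by
  have : Finite Spor.HN := Nat.finite_of_card_ne_zero (by rw [Cfsg.Agent.KFacts.HN.Classes.card_HN]; norm_num)
  have : Fact (Nat.Prime 5) := ⟨Nat.prime_five⟩
  obtain ⟨n, hn⟩ := IsPGroup.iff_card.1 isPGroup_P
  have h1 := P.card_mul_index
  rw [Cfsg.Agent.KFacts.HN.Classes.card_HN, hn] at h1
  have h2 := index_P
  rw [hn]
  have h3 : 5 ^ 6 * 17474 ∣ 5 ^ 6 * 17474 := dvd_rfl
  have h4 : 5 ^ n ∣ 5 ^ 6 * 17473978368 := by
    rw [show 5 ^ 6 * 17473978368 = 273030912000000 by norm_num, ← h1]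
    exact Dvd.intro _ rfl
  have h5 : 5 ^ n ∣ 5 ^ 6 := by
    refine Nat.Coprime.dvd_of_dvd_mul_right (Nat.Coprime.pow_left n ?_) h4
    norm_num
  have h6 : n ≤ 6 := (Nat.pow_dvd_pow_iff_le_right (by norm_num)).1 h5
  by_contra hne
  have h7 : n < 6 := by
    rcases Nat.lt_or_ge n 6 with h | h
    · exact h
    · exact absurd (by rw [show n = 6 by omega]) hne
  apply h2
  have h8 : 5 ^ 6 ∣ 5 ^ n * P.index := by
    rw [h1]; norm_num
  have h9 : 5 ^ n * 5 ^ (6 - n) ∣ 5 ^ n * P.index := by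
    rw [← pow_add, show n + (6 - n) = 6 by omega]
    exact h8
  have h10 : 5 ^ (6 - n) ∣ P.index := Nat.dvd_of_mul_dvd_mul_left (by positivity) h9
  exact (dvd_pow_self 5 (show 6 - n ≠ 0 by omega)).trans h10

variable {θ : Spor.HN →* Spor.BabyMonster}

theorem card_map (hθ : Function.Injective θ) : Nat.card (P.map θ) = 5 ^ 6 := by
  rw [Subgroup.card_map_of_injective hθ, card_P]

theorem isPGroup_map (hθ : Function.Injective θ) : IsPGroup 5 ↥(P.map θ) := IsPGroup.of_card (card_map hθ)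

theorem index_map (hθ : Function.Injective θ) : ¬ 5 ∣ (P.map θ).index := by
  have h1 := (P.map θ).card_mul_index
  rw [card_B, card_map hθ] at h1
  intro h2
  have h3 : 5 ^ 6 * 5 ∣ 5 ^ 6 * (P.map θ).index := mul_dvd_mul_left _ h2
  rw [h1] at h3
  norm_num at h3

/-- a 5-subgroup is conjugate to a subgroup of `θ(P)` -/
theorem exists_conj (hθ : Function.Injective θ) {R : Subgroup Spor.BabyMonster} (hR : IsPGroup 5 ↥R) :
    ∃ g : Spor.BabyMonster, ∀ y ∈ R, g * y * g⁻¹ ∈ P.map θ := by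
  have := fin_B
  have : Fact (Nat.Prime 5) := ⟨Nat.prime_five⟩
  obtain ⟨S, hS⟩ := hR.exists_le_sylow
  obtain ⟨g, hg⟩ := MulAction.exists_smul_eq Spor.BabyMonster S ((isPGroup_map hθ).toSylow (index_map hθ))
  refine ⟨g, fun y hy => ?_⟩
  have h2 : (S : Subgroup Spor.BabyMonster).map (MulAut.conj g).toMonoidHom = P.map θ :=
    congrArg (fun S : Sylow 5 Spor.BabyMonster => (S : Subgroup Spor.BabyMonster)) hg
  rw [← h2]
  exact ⟨y, hS hy, rfl⟩

theorem prime_of_dvd (hθ : Function.Injective θ) {x₀ : Spor.HN} (hx₀ : x₀ ∈ P) (ho : orderOf x₀ = 25) {r : ℕ}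
    (hr : r.Prime) (hd : r ∣ Nat.card (centralizer ({θ x₀} : Set Spor.BabyMonster))) : r = 5 := by
  have := fin_B
  have hB : Spor.IsoB Spor.BabyMonster := ⟨MulEquiv.refl _⟩
  have hox : orderOf (θ x₀) = 25 := by rw [orderOf_injective θ hθ, ho]
  have hle : centralizer ({θ x₀} : Set Spor.BabyMonster) ≤ centralizer ({θ x₀ ^ 5} : Set Spor.BabyMonster) := by
    intro g hg
    rw [mem_centralizer_singleton_iff] at hg ⊢
    exact ((show Commute g (θ x₀) from hg).pow_right 5).eq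
  have h5 : orderOf (θ x₀ ^ 5) = 5 := by rw [orderOf_pow' _ (by norm_num), hox]; norm_num
  have h6 : 5 ^ 6 ∣ Nat.card (centralizer ({θ x₀ ^ 5} : Set Spor.BabyMonster)) := by
    rw [← card_map hθ]
    refine card_dvd_of_le ?_
    rintro _ ⟨y, hy, rfl⟩
    rw [mem_centralizer_singleton_iff, ← map_pow, ← map_mul, ← map_mul]
    congr 1
    obtain ⟨n, hn⟩ := Subgroup.mem_zpowers_iff.1 (H793.Cyc.FiveHN.pow_five_mem hx₀)
    rw [← hn]
    exact ((HnCent.W_comm hy).symm.zpow_right n).eq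
  have h7 : r ∣ 2 ^ 8 * (3 ^ 3 * (5 ^ 9 * 7)) := by
    rcases five_dvd hB h5 with h | h | h
    · exfalso
      have h8 := (h6.trans (Dvd.intro _ rfl)).trans h
      norm_num at h8
    · exfalso
      have h8 := (h6.trans (Dvd.intro _ rfl)).trans h
      norm_num at h8
    · refine ((hd.trans (card_dvd_of_le hle)).trans ((Dvd.intro _ rfl).trans h)).trans ?_
      norm_num
  have key : ∀ {p k : ℕ}, p.Prime → r ∣ p ^ k → r = p := fun hp h =>
    (Nat.prime_dvd_prime_iff_eq hr hp).1 (hr.dvd_of_dvd_pow h)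
  have hF : Fact r.Prime := ⟨hr⟩
  obtain ⟨c, hc⟩ := exists_prime_orderOf_dvd_card' (G := ↥(centralizer ({θ x₀} : Set Spor.BabyMonster))) r hd
  have hco : orderOf (c : Spor.BabyMonster) = r := by rw [Subgroup.orderOf_coe, hc]
  have hcx : (c : Spor.BabyMonster) * θ x₀ = θ x₀ * c := mem_centralizer_singleton_iff.1 c.2
  have h25 : 25 ∣ Nat.card (centralizer ({(c : Spor.BabyMonster)} : Set Spor.BabyMonster)) := by
    rw [← hox]
    exact Subgroup.orderOf_dvd_natCard _ (mem_centralizer_singleton_iff.2 hcx.symm)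
  rcases hr.dvd_mul.1 h7 with h | h
  · have hr2 := key Nat.prime_two h
    exact absurd hcx (H525.RO.BNo.no_comm (by rw [hco, hr2]) hox)
  rcases hr.dvd_mul.1 h with h | h
  · exfalso
    have hr3 := key Nat.prime_three h
    rcases H844.Ore.BThree.three_dvd hB (s := (c : Spor.BabyMonster)) (by rw [hco, hr3]) with (h8 | h8 | h8) | h8
    · have h9 := h25.trans h8
      norm_num at h9
    · have h9 := h25.trans h8
      norm_num at h9
    · have h9 := h25.trans h8
      norm_num at h9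
    · exact not_FiB h8 hox hcx.symm
  rcases hr.dvd_mul.1 h with h | h
  · exact key Nat.prime_five h
  · exfalso
    have hr7 := (Nat.prime_dvd_prime_iff_eq hr (by norm_num)).1 h
    have h9 := h25.trans (seven_dvd hB (y := (c : Spor.BabyMonster)) (by rw [hco, hr7]))
    norm_num at h9

theorem card_cent_map (hθ : Function.Injective θ) {x : Spor.BabyMonster} (hx : orderOf x = 25) :
    Nat.card (centralizer ({x} : Set Spor.BabyMonster)) = 25 := by
  have := fin_B
  have hF : Fact (Nat.Prime 5) := ⟨Nat.prime_five⟩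
  have hconj : ∀ (g y : Spor.BabyMonster), orderOf (g * y * g⁻¹) = orderOf y := fun g y =>
    MulEquiv.orderOf_eq (MulAut.conj g) y
  -- `C(x)` is a 5-group
  have hp : ∀ y : Spor.BabyMonster, orderOf y = 25 → IsPGroup 5 ↥(centralizer ({y} : Set Spor.BabyMonster)) := by
    intro y hy
    have h1 : IsPGroup 5 ↥(zpowers y) := IsPGroup.of_card (n := 2) (by rw [Nat.card_zpowers, hy]; norm_num)
    obtain ⟨g, hg⟩ := exists_conj hθ h1
    obtain ⟨x₀, hx₀, he⟩ := hg y (Subgroup.mem_zpowers y)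
    have ho : orderOf x₀ = 25 := by rw [← orderOf_injective θ hθ, he, hconj, hy]
    have hcc : Nat.card ↥(centralizer ({y} : Set Spor.BabyMonster)) =
        Nat.card ↥(centralizer ({θ x₀} : Set Spor.BabyMonster)) :=
      MThirteen.card_cent_conj (isConj_iff.2 ⟨g, he.symm⟩)
    have h2 := Nat.eq_prime_pow_of_unique_prime_dvd (n := Nat.card ↥(centralizer ({y} : Set Spor.BabyMonster)))
      (p := 5) Nat.card_pos.ne' (fun {d} hd hdd => prime_of_dvd hθ hx₀ ho hd (by rwa [hcc] at hdd))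
    exact IsPGroup.of_card h2
  obtain ⟨g, hg⟩ := exists_conj hθ (hp x hx)
  have hcc : Nat.card ↥(centralizer ({x} : Set Spor.BabyMonster)) =
      Nat.card ↥(centralizer ({g * x * g⁻¹} : Set Spor.BabyMonster)) :=
    MThirteen.card_cent_conj (isConj_iff.2 ⟨g, rfl⟩)
  obtain ⟨x₀, hx₀, he⟩ := hg x (mem_centralizer_singleton_iff.2 rfl)
  have ho : orderOf x₀ = 25 := by rw [← orderOf_injective θ hθ, he, hconj, hx]
  have h1 : centralizer ({g * x * g⁻¹} : Set Spor.BabyMonster) = zpowers (g * x * g⁻¹) := by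
    apply le_antisymm
    · intro y hy
      rw [mem_centralizer_singleton_iff] at hy
      have h2 : (g⁻¹ * y * g) * x = x * (g⁻¹ * y * g) := by
        calc (g⁻¹ * y * g) * x = g⁻¹ * (y * (g * x * g⁻¹)) * g := by group
          _ = g⁻¹ * (g * x * g⁻¹ * y) * g := by rw [hy]
          _ = x * (g⁻¹ * y * g) := by group
      obtain ⟨y₀, hy₀, hye⟩ := hg _ (mem_centralizer_singleton_iff.2 h2)
      have h3 : θ y₀ = y := by rw [hye]; group
      rw [← he, ← h3] at hy ⊢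
      have h4 : x₀ * y₀ = y₀ * x₀ := hθ (by rw [map_mul, map_mul, hy])
      obtain ⟨n, hn⟩ := Subgroup.mem_zpowers_iff.1 (HnCent.mem_zpowers hx₀ hy₀ ho h4)
      exact Subgroup.mem_zpowers_iff.2 ⟨n, by rw [← hn, map_zpow]⟩
    · rw [Subgroup.zpowers_le, mem_centralizer_singleton_iff]
  rw [hcc, h1, Nat.card_zpowers, hconj, hx]

end main

/-- **The centralizers of the elements of order 25 of the Baby Monster.** -/
theorem card_cent {L : Type u} [Group L] (h : Spor.IsoB L) {x : L} (hx : orderOf x = 25) :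
    Nat.card (centralizer ({x} : Set L)) = 25 := by
  obtain ⟨e⟩ := h
  obtain ⟨θ, hθ⟩ := H525.RO.BRow.exists_hom
  rw [LThreeB.card_centralizer_congr e x]
  exact card_cent_map hθ (by rw [MulEquiv.orderOf_eq, hx])

/-- **fifth powers of elements of order 25** -/
theorem five_b {L : Type u} [Group L] [Finite L] (h : Spor.IsoB L) {x : L} (hx : orderOf x = 25) :
    5 ^ 6 ∣ Nat.card (centralizer ({x ^ 5} : Set L)) ∧
      Nat.card (centralizer ({x ^ 5} : Set L)) * 2 ∣ 5 ^ 7 * (604800 * 2) := by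
  have h5 : orderOf (x ^ 5) = 5 := by rw [orderOf_pow' _ (by norm_num), hx]; norm_num
  have h6 : 5 ^ 6 ∣ Nat.card (centralizer ({x ^ 5} : Set L)) := by
    obtain ⟨e⟩ := h
    obtain ⟨θ, hθ⟩ := H525.RO.BRow.exists_hom
    rw [LThreeB.card_centralizer_congr e, map_pow]
    obtain ⟨y, hy⟩ : ∃ y, y = e x := ⟨_, rfl⟩
    have hyo : orderOf y = 25 := by rw [hy, MulEquiv.orderOf_eq, hx]
    rw [← hy]
    have := fin_B
    have hF : Fact (Nat.Prime 5) := ⟨Nat.prime_five⟩
    have h1 : IsPGroup 5 ↥(zpowers y) := IsPGroup.of_card (n := 2) (by rw [Nat.card_zpowers, hyo]; norm_num)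
    obtain ⟨g, hg⟩ := exists_conj hθ h1
    obtain ⟨x₀, hx₀, he⟩ := hg y (Subgroup.mem_zpowers y)
    have hcc : Nat.card ↥(centralizer ({y ^ 5} : Set Spor.BabyMonster)) =
        Nat.card ↥(centralizer ({θ x₀ ^ 5} : Set Spor.BabyMonster)) :=
      MThirteen.card_cent_conj (isConj_iff.2 ⟨g, by rw [he, conj_pow]⟩)
    rw [hcc, ← card_map hθ]
    refine card_dvd_of_le ?_
    rintro _ ⟨z, hz, rfl⟩
    rw [mem_centralizer_singleton_iff, ← map_pow, ← map_mul, ← map_mul]
    congr 1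
    obtain ⟨n, hn⟩ := Subgroup.mem_zpowers_iff.1 (H793.Cyc.FiveHN.pow_five_mem hx₀)
    rw [← hn]
    exact ((HnCent.W_comm hz).symm.zpow_right n).eq
  refine ⟨h6, ?_⟩
  rcases five_dvd h h5 with h | h | h
  · exfalso
    have h8 := (h6.trans (Dvd.intro _ rfl)).trans h
    norm_num at h8
  · exfalso
    have h8 := (h6.trans (Dvd.intro _ rfl)).trans h
    norm_num at h8
  · exact h

/-- the Baby Monster has an element of order 25 -/
theorem exists_elt {L : Type u} [Group L] (h : Spor.IsoB L) : ∃ x : L, orderOf x = 25 := by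
  obtain ⟨e⟩ := h
  obtain ⟨θ, hθ⟩ := H525.RO.BRow.exists_hom
  obtain ⟨b, g, -, ho⟩ := H525.RO.HnElt.exists_order
  exact ⟨e.symm (θ (b * (g⁻¹ * b * g))), by rw [MulEquiv.orderOf_eq, orderOf_injective θ hθ, ho]⟩

end Cfsg.Agent.H810.RIM.BCent
end

private theorem dce_689d5efd8f5a : _root_.True := by
  try have : _root_.True := by simp only [_root_.Cfsg.Agent.H810.RIM.HnCent.u0.eq_1]
  exact _root_.True.intro
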